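import Cfsg.Agent.Lib.Helper38.Pmin3.Defs

/-!
# S2930 "Pmin3", package (TOP) (helper27)
-/

set_option autoImplicit false

namespace Cfsg.Agent.Lib.Helper27.Pmin3

open Cfsg.Agent.Lib.Helper38.Pmin3 Equiv

theorem lemTop : LemTop := by
  intro n S hn hS htr
  classical
  have hfact : Fact (Nat.Prime 3) := ⟨Nat.prime_three⟩
  have hpt : MulAction.IsPretransitive S (Fin n) := ⟨fun x y => by
    obtain ⟨g, hg, hgx⟩ := htr x y
    exact ⟨⟨g, hg⟩, hgx⟩⟩
  let x₀ : Fin n := ⟨0, by omega⟩
  set H : Subgroup S := MulAction.stabilizer S x₀ with hHdef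
  obtain ⟨k, hk⟩ := IsPGroup.iff_card.1 hS
  have hidx : ∀ x : Fin n, (MulAction.stabilizer S x).index = n := by
    intro x
    rw [MulAction.index_stabilizer_of_transitive]; simp
  have hcardH : Nat.card H * n = 3 ^ k := by
    have h0 := Subgroup.card_mul_index H
    have h00 : H.index = n := hidx x₀
    rw [hk, h00] at h0
    exact h0
  obtain ⟨j, hj, hn3⟩ := (Nat.dvd_prime_pow Nat.prime_three).1 (Dvd.intro_left _ hcardH)
  have hj0 : j ≠ 0 := by
    rintro rfl
    rw [pow_zero] at hn3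
    omega
  have hH : Nat.card H = 3 ^ (k - j) := by
    have h1 : Nat.card H * 3 ^ j = 3 ^ (k - j) * 3 ^ j := by
      calc Nat.card H * 3 ^ j = Nat.card H * n := by rw [← hn3]
        _ = 3 ^ k := hcardH
        _ = 3 ^ (k - j) * 3 ^ j := by rw [← pow_add, Nat.sub_add_cancel hj]
    exact Nat.eq_of_mul_eq_mul_right (by positivity) h1
  obtain ⟨Q, hQ, hHQ⟩ := Sylow.exists_subgroup_card_pow_prime_le 3 (m := k - 1) (n := k - j)
    (by rw [hk]; exact pow_dvd_pow 3 (Nat.sub_le k 1)) H hH (by omega)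
  have hk1 : 1 ≤ k := by omega
  have hQidx : Q.index = 3 := by
    have h1 := Subgroup.card_mul_index Q
    rw [hQ, hk] at h1
    have h2 : 3 ^ (k - 1) * Q.index = 3 ^ (k - 1) * 3 := by
      rw [h1, ← pow_succ, Nat.sub_add_cancel hk1]
    exact Nat.eq_of_mul_eq_mul_left (by positivity) h2
  have hQn : Q.Normal := by
    apply Subgroup.normal_of_index_eq_minFac_card
    rw [hQidx, hk, Nat.Prime.pow_minFac Nat.prime_three (by omega)]
  -- stabilizers lie in Q
  have hstabQ : ∀ x : Fin n, MulAction.stabilizer S x ≤ Q := by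
    intro x h hh
    obtain ⟨g, hg⟩ := MulAction.exists_smul_eq S x₀ x
    have h1 : g⁻¹ * h * g ∈ H := by
      rw [hHdef, MulAction.mem_stabilizer_iff, mul_smul, mul_smul, hg,
        MulAction.mem_stabilizer_iff.1 hh, ← hg, inv_smul_smul]
    have h2 := hQn.conj_mem _ (hHQ h1) g
    have h3 : g * (g⁻¹ * h * g) * g⁻¹ = h := by group
    rwa [h3] at h2
  refine ⟨fun x y => (MulAction.orbitRel Q (Fin n)) x y, (MulAction.orbitRel Q (Fin n)).iseqv,
    ?_, ?_⟩
  · intro g hg x y
    have key : ∀ (g : S) (x y : Fin n), x ∈ MulAction.orbit Q y →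
        g • x ∈ MulAction.orbit Q (g • y) := by
      rintro g x y ⟨q, rfl⟩
      refine ⟨⟨g * q * g⁻¹, hQn.conj_mem _ q.2 g⟩, ?_⟩
      show (g * (q : S) * g⁻¹) • (g • y) = g • ((q : S) • y)
      rw [mul_smul, mul_smul, inv_smul_smul]
    constructor
    · intro h
      have h1 : ((⟨g, hg⟩ : S) • x) ∈ MulAction.orbit Q ((⟨g, hg⟩ : S) • y) := h
      have h2 := key (⟨g, hg⟩ : S)⁻¹ _ _ h1
      rw [inv_smul_smul, inv_smul_smul] at h2
      exact h2
    · intro h
      exact key ⟨g, hg⟩ x y h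
  · intro x
    have hset : {y | (MulAction.orbitRel Q (Fin n)) x y} = MulAction.orbit Q x := by
      ext y
      show x ∈ MulAction.orbit Q y ↔ y ∈ MulAction.orbit Q x
      exact MulAction.mem_orbit_symm
    rw [hset]
    have hst : MulAction.stabilizer Q x = (MulAction.stabilizer S x).subgroupOf Q := by
      ext q
      rfl
    have h1 : (MulAction.stabilizer Q x).index = (MulAction.orbit Q x).ncard :=
      MulAction.index_stabilizer Q x
    have h2 : (MulAction.stabilizer S x).relIndex Q * Q.index = (MulAction.stabilizer S x).index :=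
      Subgroup.relIndex_mul_index (hstabQ x)
    have h3 : (MulAction.stabilizer S x).relIndex Q = (MulAction.orbit Q x).ncard := by
      rw [← h1, hst]; rfl
    rw [h3, hQidx, hidx x] at h2
    omega

end Cfsg.Agent.Lib.Helper27.Pmin3
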